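import Groth.Agent.H16Derived.DerComp.CompGroup
import Mathlib.Algebra.Homology.DerivedCategory.SingleTriangle
import Mathlib.Algebra.Homology.DerivedCategory.Linear
import Mathlib.CategoryTheory.Triangulated.Adjunction
import Mathlib.CategoryTheory.Triangulated.Subcategory

/-!
# Vanishing of Hom groups into a linear reflection

For objects with stabilising kernels of scalars, maps from `u` into the shifts of the reflection
vanish outside degree zero as soon as they do for the objects on which the scalars are nilpotent.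
-/

set_option autoImplicit false
set_option linter.style.haveILetI false
set_option backward.isDefEq.respectTransparency false

universe w v u r

open CategoryTheory CategoryTheory.Limits CategoryTheory.Pretriangulated

namespace Groth.Agent.H16Derived.DerCohVanish

open Groth.Agent.H16Derived.DerCompLib

variable {R : Type r} [CommRing R] {A : Type u} [Category.{v} A] [Abelian A] [Linear R A]
  [HasDerivedCategory.{w} A]

theorem subsingleton_obj₂ {T : Triangle (DerivedCategory A)} (hT : T ∈ distTriang (DerivedCategory A))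
    (X : DerivedCategory A) (q : ℤ) (h₁ : Subsingleton (X ⟶ T.obj₁⟦q⟧)) (h₃ : Subsingleton (X ⟶ T.obj₃⟦q⟧)) :
    Subsingleton (X ⟶ T.obj₂⟦q⟧) :=
  subsingleton_of_forall_eq 0 fun x => by
    obtain ⟨y, hy⟩ := Triangle.coyoneda_exact₂ _ (Triangle.shift_distinguished T hT q) x (h₃.elim _ _)
    rw [hy, h₁.elim y 0, zero_comp]

theorem exists_lift₂ {T : Triangle (DerivedCategory A)} (hT : T ∈ distTriang (DerivedCategory A))
    (X : DerivedCategory A) (q : ℤ) (h₃ : Subsingleton (X ⟶ T.obj₃⟦q⟧)) (x : X ⟶ T.obj₂⟦q⟧) :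
    ∃ y : X ⟶ T.obj₁⟦q⟧, x = y ≫ T.mor₁⟦q⟧' := by
  obtain ⟨y, hy⟩ := Triangle.coyoneda_exact₂ _ (Triangle.shift_distinguished T hT q) x (h₃.elim _ _)
  change x = y ≫ (q.negOnePow • T.mor₁⟦q⟧') at hy
  exact ⟨(q.negOnePow : ℤ) • y, by rw [hy, Preadditive.zsmul_comp, Units.smul_def, Preadditive.comp_zsmul]⟩

/-- A scalar acting nilpotently. -/
def Nil (s : R) (H : A) : Prop := ∃ N : ℕ, s ^ N • 𝟙 H = 0

theorem Nil.of_mono {s : R} {K H : A} (i : K ⟶ H) [Mono i] (h : Nil s H) : Nil s K := by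
  obtain ⟨N, hN⟩ := h
  refine ⟨N, (cancel_mono i).1 ?_⟩
  rw [zero_comp, Linear.smul_comp, Category.id_comp, ← Category.comp_id i, ← Linear.comp_smul, hN, comp_zero]

theorem Nil.of_epi {s : R} {H Q : A} (p : H ⟶ Q) [Epi p] (h : Nil s H) : Nil s Q := by
  obtain ⟨N, hN⟩ := h
  refine ⟨N, (cancel_epi p).1 ?_⟩
  rw [comp_zero, Linear.comp_smul, Category.comp_id, ← Category.id_comp p, ← Linear.smul_comp, hN, zero_comp]

variable {P : ObjectProperty (DerivedCategory A)} [P.IsTriangulated] [P.IsClosedUnderIsomorphisms]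
  {c : DerivedCategory A ⥤ P.FullSubcategory} (adj : c ⊣ P.ι)

include adj in
theorem exists_refl_triangle {X Y Z : DerivedCategory A} {f : X ⟶ Y} {g : Y ⟶ Z} {d : Z ⟶ X⟦(1 : ℤ)⟧}
    (hT : Triangle.mk f g d ∈ distTriang (DerivedCategory A)) :
    ∃ d', Triangle.mk (c.map f).hom (c.map g).hom d' ∈ distTriang (DerivedCategory A) := by
  letI := adj.leftAdjointCommShift ℤ
  haveI := adj.commShift_of_rightAdjoint ℤ
  haveI : c.IsTriangulated := adj.isTriangulated_leftAdjoint
  exact ⟨_, P.ι.map_distinguished _ (c.map_distinguished _ hT)⟩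

include adj in
theorem refl_map_smul (s : R) (X : DerivedCategory A) :
    (c.map (s • 𝟙 X)).hom = s • 𝟙 (c.obj X).obj := by
  have h : c.map (s • 𝟙 X) = ObjectProperty.homMk (s • 𝟙 (c.obj X).obj) := by
    apply (adj.homEquiv _ _).injective
    rw [Adjunction.homEquiv_unit, Adjunction.homEquiv_unit]
    refine (adj.unit.naturality (s • 𝟙 X)).symm.trans ?_
    show (s • 𝟙 X) ≫ adj.unit.app X = adj.unit.app X ≫ (s • 𝟙 (c.obj X).obj)
    rw [Linear.smul_comp, Category.id_comp, Linear.comp_smul]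
    exact congrArg (s • ·) (Category.comp_id _).symm
  rw [h]
  rfl

variable (u₀ : A)

/-- Vanishing outside degree zero after reflection. -/
def Van (c : DerivedCategory A ⥤ P.FullSubcategory) (H : A) : Prop :=
  ∀ q : ℤ, q ≠ 0 → Subsingleton ((DerivedCategory.singleFunctor A 0).obj u₀ ⟶
    (c.obj ((DerivedCategory.singleFunctor A 0).obj H)).obj⟦q⟧)

variable {u₀}

include adj in
theorem van_X₂ {S : ShortComplex A} (hS : S.ShortExact) (h₁ : Van u₀ c S.X₁) (h₃ : Van u₀ c S.X₃) :
    Van u₀ c S.X₂ := fun q hq => by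
  obtain ⟨d, hd⟩ := exists_refl_triangle adj hS.singleTriangle_distinguished
  exact subsingleton_obj₂ hd _ q (h₁ q hq) (h₃ q hq)

include adj in
theorem van_of_injective (s : R) {H : A} [Mono (s • 𝟙 H)]
    (hcomp : ∀ M, P M → ∀ q : ℤ, Comp (Preadditive.leftComp (M⟦q⟧)
      (s • 𝟙 ((DerivedCategory.singleFunctor A 0).obj u₀))))
    (hQ : Van u₀ c (cokernel (s • 𝟙 H))) : Van u₀ c H := fun q hq => by
  let u' := (DerivedCategory.singleFunctor A 0).obj u₀
  let T := (c.obj ((DerivedCategory.singleFunctor A 0).obj H)).obj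
  let S : ShortComplex A := ShortComplex.mk (s • 𝟙 H) (cokernel.π _) (cokernel.condition _)
  have hS : S.ShortExact := { exact := ShortComplex.exact_cokernel (s • 𝟙 H) }
  obtain ⟨d, hd⟩ := exists_refl_triangle adj hS.singleTriangle_distinguished
  have hsurj : ∀ x : u' ⟶ T⟦q⟧, ∃ y : u' ⟶ T⟦q⟧, x = s • y := fun x => by
    obtain ⟨y, hy⟩ := exists_lift₂ hd u' q (hQ q hq) x
    refine ⟨y, hy.trans ?_⟩
    show y ≫ ((c.map ((DerivedCategory.singleFunctor A 0).map (s • 𝟙 H))).hom)⟦q⟧' = _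
    rw [Functor.map_smul, CategoryTheory.Functor.map_id, refl_map_smul adj, Functor.map_smul,
      Linear.comp_smul]
    exact congrArg (s • ·) ((congrArg (y ≫ ·) ((shiftFunctor (DerivedCategory A) q).map_id _)).trans
      (Category.comp_id _))
  choose g hg using hsurj
  refine subsingleton_of_forall_eq 0 fun x => ?_
  exact congrFun ((hcomp T (c.obj _).property q).eq_zero (x := fun i => g^[i] x) fun i => by
    show g^[i] x = (s • 𝟙 u') ≫ g^[i + 1] x
    rw [Linear.smul_comp, Category.id_comp, Function.iterate_succ_apply']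
    exact hg _) 0

/-- Induction on the scalars that are not nilpotent. -/
theorem class_induction (C : A → Prop) (S : Finset R) (Q : A → Prop)
    (hker : ∀ {H H' : A} (φ : H ⟶ H'), C H → C H' → C (kernel φ) ∧ C (cokernel φ))
    (hstab : ∀ s ∈ S, ∀ H, C H → ∃ N : ℕ, ∀ (Z : A) (φ : Z ⟶ H), s ^ (N + 1) • φ = 0 → s ^ N • φ = 0)
    (hbase : ∀ H, C H → (∀ s ∈ S, Nil s H) → Q H)
    (hext : ∀ T : ShortComplex A, T.ShortExact → C T.X₁ → C T.X₂ → C T.X₃ → Q T.X₁ → Q T.X₃ → Q T.X₂)
    (hinj : ∀ s ∈ S, ∀ H, C H → Mono (s • 𝟙 H) → Q (cokernel (s • 𝟙 H)) → Q H) :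
    ∀ H, C H → Q H := by
  classical
  suffices ∀ (n : ℕ) (H : A), C H → (S.filter fun s => ¬ Nil s H).card ≤ n → Q H from
    fun H hH => this _ H hH le_rfl
  intro n
  induction n using Nat.strong_induction_on with
  | _ n ih =>
  intro H hH hn
  by_cases hall : ∀ s ∈ S, Nil s H
  · exact hbase H hH hall
  · push Not at hall
    obtain ⟨s, hsS, hs⟩ := hall
    obtain ⟨N, hN⟩ := hstab s hsS H hH
    let i := kernel.ι (s ^ N • 𝟙 H)
    let H' := cokernel i
    let π : H ⟶ H' := cokernel.π i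
    obtain ⟨hK, -⟩ := hker (s ^ N • 𝟙 H) hH hH
    have hH' : C H' := (hker i hK hH).2
    let m : H' ⟶ H := cokernel.desc i (s ^ N • 𝟙 H) (kernel.condition _)
    haveI : Mono m := (ShortComplex.exact_kernel (s ^ N • 𝟙 H)).mono_cokernelDesc
    haveI hmono : Mono (s • 𝟙 H') := Preadditive.mono_of_cancel_zero _ fun {Z} y hy => by
      obtain ⟨Z', p, hp, y', hy'⟩ := surjective_up_to_refinements_of_epi π y
      have h0 : s ^ (N + 1) • y' = 0 := by
        have h1 : p ≫ (y ≫ (s • 𝟙 H')) ≫ m = 0 := by rw [hy, zero_comp, comp_zero]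
        rw [Linear.comp_smul, Category.comp_id, Linear.smul_comp, Linear.comp_smul, ← Category.assoc, hy',
          Category.assoc, cokernel.π_desc, Linear.comp_smul, Category.comp_id, smul_smul, mul_comm,
          ← pow_succ] at h1
        exact h1
      have h2 : p ≫ y ≫ m = 0 := by
        rw [← Category.assoc, hy', Category.assoc, cokernel.π_desc, Linear.comp_smul, Category.comp_id]
        exact hN _ _ h0
      rw [← cancel_mono m, zero_comp, ← cancel_epi p, comp_zero, h2]
    have hlt : ∀ (G : A), Nil s G → (∀ t ∈ S, Nil t H → Nil t G) →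
        (S.filter fun t => ¬ Nil t G).card < n := fun G hG hG' => by
      refine lt_of_lt_of_le (Finset.card_lt_card (Finset.ssubset_iff_of_subset ?_ |>.2
        ⟨s, Finset.mem_filter.2 ⟨hsS, hs⟩, fun h => (Finset.mem_filter.1 h).2 hG⟩)) hn
      intro t ht
      rw [Finset.mem_filter] at ht ⊢
      exact ⟨ht.1, fun h => ht.2 (hG' t ht.1 h)⟩
    have hKnil : Nil s (kernel (s ^ N • 𝟙 H)) := ⟨N, (cancel_mono i).1 (by
      rw [zero_comp, Linear.smul_comp, Category.id_comp, ← Category.comp_id i, ← Linear.comp_smul]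
      exact kernel.condition _)⟩
    have hQnil : Nil s (cokernel (s • 𝟙 H')) := ⟨1, (cancel_epi (cokernel.π (s • 𝟙 H'))).1 (by
      rw [comp_zero, pow_one, Linear.comp_smul, Category.comp_id,
        ← Category.id_comp (cokernel.π (s • 𝟙 H')), ← Linear.smul_comp]
      exact cokernel.condition _)⟩
    have hKv : Q (kernel (s ^ N • 𝟙 H)) := ih _ (hlt _ hKnil fun t _ ht => ht.of_mono i) _ hK le_rfl
    have hH'v : Q H' := hinj s hsS H' hH' hmono (ih _ (hlt _ hQnil fun t _ ht =>
      (ht.of_epi π).of_epi (cokernel.π (s • 𝟙 H'))) _ (hker _ hH' hH').2 le_rfl)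
    let T : ShortComplex A := ShortComplex.mk i π (cokernel.condition _)
    have hT : T.ShortExact := { exact := ShortComplex.exact_cokernel i }
    exact hext T hT hK hH hH' hKv hH'v

include adj in
/-- The main induction. -/
theorem van_of_class (C : A → Prop) (S : Finset R)
    (hker : ∀ {H H' : A} (φ : H ⟶ H'), C H → C H' → C (kernel φ) ∧ C (cokernel φ))
    (hstab : ∀ s ∈ S, ∀ H, C H → ∃ N : ℕ, ∀ (Z : A) (φ : Z ⟶ H), s ^ (N + 1) • φ = 0 → s ^ N • φ = 0)
    (hnil : ∀ H, C H → (∀ s ∈ S, Nil s H) → P ((DerivedCategory.singleFunctor A 0).obj H))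
    (hvan : ∀ H, C H → ∀ q : ℤ, q ≠ 0 → Subsingleton ((DerivedCategory.singleFunctor A 0).obj u₀ ⟶
      ((DerivedCategory.singleFunctor A 0).obj H)⟦q⟧))
    (hcomp : ∀ s ∈ S, ∀ M, P M → ∀ q : ℤ, Comp (Preadditive.leftComp (M⟦q⟧)
      (s • 𝟙 ((DerivedCategory.singleFunctor A 0).obj u₀)))) :
    ∀ H, C H → Van u₀ c H := by
  refine class_induction C S (Van u₀ c) hker hstab (fun H hH hall q hq => ?_)
    (fun T hT _ _ _ h₁ h₃ => van_X₂ adj hT h₁ h₃)
    (fun s hs H _ hmono hQ => @van_of_injective _ _ _ _ _ _ _ _ _ _ _ adj _ s H hmono (hcomp s hs) hQ)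
  let Y := (DerivedCategory.singleFunctor A 0).obj H
  haveI : IsIso (adj.counit.app (⟨Y, hnil H hH hall⟩ : P.FullSubcategory)) := inferInstance
  let e : (c.obj Y).obj ≅ Y :=
    P.ι.mapIso (asIso (adj.counit.app (⟨Y, hnil H hH hall⟩ : P.FullSubcategory)))
  haveI := hvan H hH q hq
  exact ((Iso.refl _).homCongr ((shiftFunctor (DerivedCategory A) q).mapIso e)).subsingleton

end Groth.Agent.H16Derived.DerCohVanish
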