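import Groth.Agent.H16Derived.DerCohVanish.Site
import Groth.Agent.H10Coh.OpenSpec
import Groth.Agent.H10Coh.Affine
import Groth.Agent.H15Site.ModExtH
import Groth.Agent.H17.FPExt.Compact
import Groth.Agent.H16Derived.ExactAdj
import Groth.Prelude.Def_SiteCmp

/-!
# Cohomology of derived completions of coherent modules on affine opens
-/

set_option autoImplicit false
set_option linter.style.haveILetI false
set_option linter.unusedSectionVars false
set_option backward.isDefEq.respectTransparency false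

universe u

open CategoryTheory CategoryTheory.Limits Opposite TopologicalSpace AlgebraicGeometry

namespace Groth.Agent.H16Derived.DerCohVanish

open DerCompLib H15Site

attribute [local instance] HasDerivedCategory.standard
attribute [local instance 10000] SiteInst.hasSheafifySite SiteInst.hasWeakSheafifySite
attribute [local instance] shiftAdditive

variable {X : Scheme.{u}} (U : X.Opens)

/-- Modules on the site over `U` as modules on the open subscheme. -/
noncomputable abbrev toU : ModSite.Mod (X.sheaf.over U) ⥤ U.toScheme.Modules :=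
  (Scheme.Modules.overEquiv U).functor

/-- Restriction to the site over `U` is restriction to the open subscheme. -/
noncomputable def toURestrIso (F : X.Modules) :
    (toU U).obj ((ModSite.restr X.sheaf U).obj F) ≅ F.restrict U.ι :=
  (Scheme.Modules.overFunctorEquiv U).app F

/-- The structure sheaf of the open subscheme. -/
noncomputable def toUUnitIso :
    (toU U).obj (ModSite.unit (X.sheaf.over U)) ≅ SheafOfModules.unit U.toScheme.ringCatSheaf :=
  (Scheme.Modules.overFunctorEquiv U).app (SheafOfModules.unit X.ringCatSheaf) ≪≫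
    Scheme.Modules.restrictUnitIso U.ι

/-- No higher maps from the structure sheaf to a quasi-coherent module on an affine scheme. -/
theorem subsingleton_hom_unit {Y : Scheme.{u}} [IsAffine Y] (M : Y.Modules) (hM : Coh.IsQCoh M) (q : ℤ)
    (hq : q ≠ 0) : Subsingleton ((DerivedCategory.singleFunctor Y.Modules 0).obj (SheafOfModules.unit Y.ringCatSheaf) ⟶
      ((DerivedCategory.singleFunctor Y.Modules 0).obj M)⟦q⟧) := by
  rcases lt_or_gt_of_ne hq with h | h
  · haveI : (((DerivedCategory.singleFunctor Y.Modules 0).obj M)⟦q⟧).IsGE (-q) :=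
      DerivedCategory.TStructure.t.isGE_shift ((DerivedCategory.singleFunctor Y.Modules 0).obj M) 0 q (-q) (by omega)
    exact subsingleton_of_forall_eq 0 fun f =>
      DerivedCategory.TStructure.t.zero_of_isLE_of_isGE f 0 (-q) (by omega) inferInstance inferInstance
  · obtain ⟨n, rfl⟩ : ∃ n : ℕ, q = ((n + 1 : ℕ) : ℤ) := ⟨q.toNat - 1, by omega⟩
    haveI := H10Coh.isGrothendieckAbelian_sheafOfModules (ModSite.ringSh Y.sheaf)
    haveI : EnoughInjectives (ModSite.Mod Y.sheaf) := IsGrothendieckAbelian.enoughInjectives.{u}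
    haveI : HasExt.{u} (ModSite.Mod Y.sheaf) := hasExt_of_enoughInjectives _
    obtain ⟨e⟩ := ModExtH.nonempty_ext_unit_addEquiv (ModSite.ringSh Y.sheaf) M (n + 1)
    haveI : M.IsQuasicoherent := hM
    haveI : Subsingleton (Abelian.Ext.{u} (SheafOfModules.unit Y.ringCatSheaf) M (n + 1)) :=
      have := H10Coh.subsingleton_HH_of_isAffine M (p := n + 1) (by omega)
      e.toEquiv.subsingleton
    exact (Abelian.Ext.homEquiv (X := SheafOfModules.unit Y.ringCatSheaf) (Y := M) (n := n + 1)).symm.subsingleton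

/-- No higher maps from the unit of the site over an affine open. -/
theorem subsingleton_hom_unit_over (hU : IsAffineOpen U) (H : ModSite.Mod (X.sheaf.over U))
    (hH : Coh.IsQCoh ((toU U).obj H)) (q : ℤ) (hq : q ≠ 0) :
    Subsingleton ((DerivedCategory.singleFunctor (ModSite.Mod (X.sheaf.over U)) 0).obj (ModSite.unit (X.sheaf.over U)) ⟶
      ((DerivedCategory.singleFunctor (ModSite.Mod (X.sheaf.over U)) 0).obj H)⟦q⟧) := by
  haveI : IsAffine U.toScheme := hU
  let e : ModSite.Mod (X.sheaf.over U) ≌ U.toScheme.Modules := Scheme.Modules.overEquiv U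
  haveI : e.functor.Additive := Functor.additive_of_preserves_binary_products _
  haveI : e.inverse.Additive := Functor.additive_of_preserves_binary_products _
  let adj := ExactAdj.mapDerivedCategoryAdj (G := e.inverse) (F := e.functor) e.symm.toAdjunction
  let u' := (DerivedCategory.singleFunctor U.toScheme.Modules 0).obj (SheafOfModules.unit U.toScheme.ringCatSheaf)
  let Z := (DerivedCategory.singleFunctor (ModSite.Mod (X.sheaf.over U)) 0).obj H
  have h := subsingleton_hom_unit ((toU U).obj H) hH q hq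
  haveI : Subsingleton (u' ⟶ ((e.functor.mapDerivedCategory.obj Z))⟦q⟧) :=
    @Equiv.subsingleton _ _ ((Iso.refl u').homCongr ((shiftFunctor _ q).mapIso
      ((e.functor.mapDerivedCategorySingleFunctor 0).app H).symm)).symm h
  haveI := Null.subsingleton_obj_of_adj_shift adj u' Z q ‹_›
  let i : e.inverse.mapDerivedCategory.obj u' ≅
      (DerivedCategory.singleFunctor (ModSite.Mod (X.sheaf.over U)) 0).obj (ModSite.unit (X.sheaf.over U)) :=
    (e.inverse.mapDerivedCategorySingleFunctor 0).app _ ≪≫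
      (DerivedCategory.singleFunctor (ModSite.Mod (X.sheaf.over U)) 0).mapIso
        (e.inverse.mapIso (toUUnitIso U).symm ≪≫ (e.unitIso.app _).symm)
  exact (i.homCongr (Iso.refl _)).symm.subsingleton

/-- The kernels of the powers of an endomorphism of a coherent module on an affine scheme stabilise. -/
theorem exists_stable {Y : Scheme.{u}} [IsAffine Y] [IsLocallyNoetherian Y] (M : Y.Modules) (hM : Coh.IsCoh M)
    (ψ : M ⟶ M) : ∃ N : ℕ, ∀ (Z : Y.Modules), Coh.IsQCoh Z → ∀ (p : ℕ → (Z ⟶ M)),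
      (∀ n, p (n + 1) = p n ≫ ψ) → p (N + 1) = 0 → p N = 0 := by
  haveI := ((H10Coh.isCoh_iff_finite_sections M).1 hM).2 ⊤ (isAffineOpen_top Y)
  haveI : IsNoetherianRing Γ(Y, ⊤) := IsLocallyNoetherian.component_noetherian ⟨⊤, isAffineOpen_top Y⟩
  let l : Γ(M, ⊤) →ₗ[Γ(Y, ⊤)] Γ(M, ⊤) :=
    { toFun := ψ.app ⊤, map_add' := map_add _, map_smul' := fun a m => ψ.app_smul a m }
  haveI : IsNoetherian Γ(Y, ⊤) Γ(M, ⊤) := isNoetherian_of_isNoetherianRing_of_finite _ _
  let K : ℕ →o Submodule Γ(Y, ⊤) Γ(M, ⊤) := ⟨fun n => LinearMap.ker (l ^ n), monotone_nat_of_le_succ fun n => by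
    intro x hx
    rw [LinearMap.mem_ker] at hx ⊢
    rw [pow_succ', Module.End.mul_apply, hx, map_zero]⟩
  obtain ⟨N, hN⟩ := monotone_stabilizes_iff_noetherian.2 ‹IsNoetherian Γ(Y, ⊤) Γ(M, ⊤)› K
  refine ⟨N, fun Z hZ p hp h0 => ?_⟩
  have happ : ∀ n z, (p n).app ⊤ z = (l ^ n) ((p 0).app ⊤ z) := by
    intro n z
    induction n with
    | zero => rfl
    | succ n ih =>
      rw [hp n, Scheme.Modules.Hom.comp_app, ConcreteCategory.comp_apply, ih, pow_succ', Module.End.mul_apply]
      rfl
  refine H17.FPExt.hom_eq_zero_of_span hZ hM.1 (p N) fun x => ?_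
  refine ⟨⊤, Set.univ, isAffineOpen_top Y, trivial, Submodule.span_univ, fun z _ => ?_⟩
  have hz : (p 0).app ⊤ z ∈ K (N + 1) := by
    show (l ^ (N + 1)) ((p 0).app ⊤ z) = 0
    rw [← happ, h0]
    rfl
  rw [← hN (N + 1) (Nat.le_succ N)] at hz
  rw [happ]
  exact hz

variable [IsLocallyNoetherian X]

/-- Kernels of powers of scalars stabilise. -/
theorem exists_stable_over (hU : IsAffineOpen U) (H : ModSite.Mod (X.sheaf.over U))
    (hH : Coh.IsCoh ((toU U).obj H)) (s : DerComp.GSec (X.sheaf.over U)) :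
    ∃ N : ℕ, ∀ (Z : ModSite.Mod (X.sheaf.over U)) (φ : Z ⟶ H), s ^ (N + 1) • φ = 0 → s ^ N • φ = 0 := by
  haveI : IsAffine U.toScheme := hU
  haveI : (toU U).Additive := Functor.additive_of_preserves_binary_products _
  let ψ := (toU U).map (s • 𝟙 H)
  obtain ⟨N, hN⟩ := exists_stable _ hH ψ
  refine ⟨N, fun Z φ hφ => ?_⟩
  have hpow : ∀ n, s ^ (n + 1) • 𝟙 H = (s ^ n • 𝟙 H) ≫ (s • 𝟙 H) := fun n => by
    rw [Linear.smul_comp, Category.id_comp, smul_smul, ← pow_succ]
  let i := kernel.ι (s ^ (N + 1) • 𝟙 H)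
  have hK : Coh.IsQCoh ((toU U).obj (kernel (s ^ (N + 1) • 𝟙 H))) :=
    (H10Coh.isCoh_of_iso (PreservesKernel.iso (toU U) _).symm
      (H10Coh.isCoh_kernel ((toU U).map (s ^ (N + 1) • 𝟙 H)) hH hH.1)).1
  have h0 : (toU U).map (i ≫ (s ^ N • 𝟙 H)) = 0 := by
    refine hN _ hK (fun n => (toU U).map (i ≫ (s ^ n • 𝟙 H))) (fun n => ?_) ?_
    · exact (congrArg (fun m => (toU U).map (i ≫ m)) (hpow n)).trans (((congrArg (toU U).map (Category.assoc _ _ _).symm)).trans ((toU U).map_comp _ _))
    · exact (congrArg (toU U).map (kernel.condition (s ^ (N + 1) • 𝟙 H))).trans (Functor.map_zero _ _ _)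
  have h1 : i ≫ (s ^ N • 𝟙 H) = 0 := (toU U).map_injective (h0.trans (Functor.map_zero _ _ _).symm)
  let φ' := kernel.lift (s ^ (N + 1) • 𝟙 H) φ (by rw [Linear.comp_smul, Category.comp_id, hφ])
  have : φ ≫ (s ^ N • 𝟙 H) = 0 := by
    rw [← kernel.lift_ι (s ^ (N + 1) • 𝟙 H) φ (by rw [Linear.comp_smul, Category.comp_id, hφ]), Category.assoc, h1,
      comp_zero]
  rwa [Linear.comp_smul, Category.comp_id] at this

variable (𝓘 : DerComp.IdealSh X.sheaf) (hqc : ∀ (U : X.affineOpens) (g : Γ(X, ↑U)),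
    𝓘.ideal (X.basicOpen g) = Ideal.map (X.presheaf.map (homOfLE (X.basicOpen_le g)).op).hom (𝓘.ideal ↑U))

include hqc in
/-- Modules on which the generators are nilpotent are complete. -/
theorem isDerComp_of_nil (hU : IsAffineOpen U) (G : Finset Γ(X, U)) (hG : Ideal.span (G : Set Γ(X, U)) = 𝓘.ideal U)
    (H : ModSite.Mod (X.sheaf.over U))
    (hH : ∀ f ∈ G, Nil (DerComp.GSec.ofSect X.sheaf U f) H) :
    DerComp.IsDerComp (X.sheaf.over U) (𝓘.over U)
      ((DerivedCategory.singleFunctor (ModSite.Mod (X.sheaf.over U)) 0).obj H) := by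
  rw [isDerComp_iff_le]
  intro V a ha
  let S₀ : Sieve V.left :=
    { arrows := fun W _ => ∃ g : Γ(X, U), X.basicOpen g ≤ V.left ∧ W ≤ X.basicOpen g
      downward_closed := fun {W W'} _ ⟨g, h1, h2⟩ k => ⟨g, h1, le_trans k.le h2⟩ }
  have hS₀ : S₀ ∈ Opens.grothendieckTopology X V.left := fun x hx => by
    obtain ⟨g, hle, hxg⟩ := hU.exists_basicOpen_le ⟨x, hx⟩ (V.hom.le hx)
    exact ⟨X.basicOpen g, homOfLE hle, ⟨g, hle, le_rfl⟩, hxg⟩
  refine (compIdeal (X.sheaf.over U) _).glue ((Sieve.overEquiv V).symm S₀)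
    ((Opens.grothendieckTopology X).overEquiv_symm_mem_over _ _ hS₀) fun Z t ht => ?_
  obtain ⟨g, hgV, hZg⟩ := (Sieve.overEquiv_symm_iff S₀ t).1 ht
  let Vg : Over U := Over.mk (homOfLE (X.basicOpen_le g))
  let kZ : Z ⟶ Vg := Over.homMk (homOfLE hZg)
  let kV : Vg ⟶ V := Over.homMk (homOfLE hgV)
  have hmem : ((X.sheaf.over U).obj.map kV.op).hom a ∈
      (compIdeal (X.sheaf.over U) ((DerivedCategory.singleFunctor (ModSite.Mod (X.sheaf.over U)) 0).obj H)).ideal Vg := by
    have h1 : ((X.sheaf.over U).obj.map kV.op).hom a ∈ 𝓘.ideal (X.basicOpen g) :=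
      𝓘.map_mem (homOfLE hgV) ha
    rw [hqc ⟨U, hU⟩ g, ← hG, Ideal.map_span] at h1
    refine (show (Ideal.span _ : Ideal Γ(X, X.basicOpen g)) ≤ _ from Ideal.span_le.2 ?_) h1
    rintro _ ⟨f, hf, rfl⟩
    obtain ⟨N, hN⟩ := hH f hf
    intro W k
    have h := compAt_of_nil (DerComp.GSec.ofSect X.sheaf U f) hN W
    convert h using 1
    show (X.presheaf.map k.left.op).hom ((X.presheaf.map (homOfLE (X.basicOpen_le g)).op).hom f) =
      (X.presheaf.map W.hom.op).hom f
    exact (ConcreteCategory.congr_hom (X.presheaf.map_comp (homOfLE (X.basicOpen_le g)).op k.left.op).symm f).trans rfl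
  have h2 := (compIdeal (X.sheaf.over U) _).map_mem kZ hmem
  rw [← CommRingCat.comp_apply, ← Functor.map_comp, ← op_comp] at h2
  convert h2 using 3
  exact congrArg (fun m => (X.sheaf.over U).obj.map m.op) (Over.OverMorphism.ext (Subsingleton.elim _ _))

include hqc in
/-- Cohomology of the derived completion of a coherent module vanishes outside degree zero on affine opens. -/
theorem main [DerComp.HasDerCompletion X.sheaf 𝓘] (F : X.Modules) (hF : Coh.IsCoh F) (hU : IsAffineOpen U)
    (p : ℤ) (hp : p ≠ 0) : Subsingleton (SiteCmp.inD X.sheaf (ModSite.freeOn X.sheaf U) ⟶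
      ((DerComp.derCompletion X.sheaf 𝓘).obj (SiteCmp.inD X.sheaf F)).obj⟦p⟧) := by
  classical
  haveI : IsAffine U.toScheme := hU
  haveI : IsNoetherianRing Γ(X, U) := IsLocallyNoetherian.component_noetherian ⟨U, hU⟩
  obtain ⟨G, hG⟩ : (𝓘.ideal U : Ideal Γ(X, U)).FG := (isNoetherianRing_iff_ideal_fg Γ(X, U)).1 ‹_› _
  let O' := X.sheaf.over U
  let I' := 𝓘.over U
  haveI := H10Coh.isGrothendieckAbelian_sheafOfModules (ModSite.ringSh X.sheaf)
  haveI := H10Coh.isGrothendieckAbelian_sheafOfModules (ModSite.ringSh O')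
  haveI := H02CA.ModRestrExact.preservesFiniteLimits_restr X.sheaf U
  haveI := H02CA.ModRestrExact.preservesFiniteColimits_restr X.sheaf U
  haveI : (ModSite.restr X.sheaf U).Additive := Functor.additive_of_preserves_binary_products _
  haveI : DerComp.HasDerCompletion O' I' := hasDerCompletion O' I'
  haveI := isClosedUnderIsomorphisms O' I'
  haveI := isTriangulated O' I'
  haveI : (toU U).Additive := Functor.additive_of_preserves_binary_products _
  let S : Finset (DerComp.GSec O') := G.image fun f => DerComp.GSec.ofSect X.sheaf U f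
  have hvan := van_of_class (A := ModSite.Mod O') (DerComp.derCompletionAdj O' I') (u₀ := ModSite.unit O')
    (fun H => Coh.IsCoh ((toU U).obj H)) S
    (fun {H H'} φ hH hH' => ⟨H10Coh.isCoh_of_iso (PreservesKernel.iso (toU U) φ).symm
        (H10Coh.isCoh_kernel _ hH hH'.1),
      H10Coh.isCoh_of_iso (PreservesCokernel.iso (toU U) φ).symm (H10Coh.isCoh_cokernel _ hH.1 hH')⟩)
    (fun s _ H hH => exists_stable_over U hU H hH s)
    (fun H _ hH => isDerComp_of_nil U 𝓘 hqc hU G hG H fun f hf =>
      hH _ (Finset.mem_image_of_mem _ hf))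
    (fun H hH q hq => subsingleton_hom_unit_over U hU H hH.1 q hq)
    (fun s hs M hM q => by
      obtain ⟨f, hf, rfl⟩ := Finset.mem_image.1 hs
      exact comp_unit X.sheaf (hG ▸ Ideal.subset_span hf) M hM q)
    ((ModSite.restr X.sheaf U).obj F)
    (H10Coh.isCoh_of_iso (toURestrIso U F).symm (H10Coh.isCoh_restrict U.ι F hF)) p hp
  -- comparison of the completions
  let FD := SiteCmp.inD X.sheaf F
  have hT := isDerComp_restr X.sheaf U 𝓘 _ ((DerComp.derCompletion X.sheaf 𝓘).obj FD).property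
  have hiso := isIso_derCompletion_restr X.sheaf U 𝓘 FD hT
  let Rr := (ModSite.restr X.sheaf U).mapDerivedCategory
  let eT : ((DerComp.derCompletion O' I').obj ((DerivedCategory.singleFunctor (ModSite.Mod O') 0).obj
      ((ModSite.restr X.sheaf U).obj F))).obj ≅ Rr.obj ((DerComp.derCompletion X.sheaf 𝓘).obj FD).obj :=
    (ObjectProperty.ι _).mapIso ((DerComp.derCompletion O' I').mapIso
      (((ModSite.restr X.sheaf U).mapDerivedCategorySingleFunctor 0).app F).symm ≪≫
      @asIso _ _ _ _ _ hiso)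
  haveI := hvan
  have h : Subsingleton ((DerivedCategory.singleFunctor (ModSite.Mod O') 0).obj (ModSite.unit O') ⟶
      (Rr.obj ((DerComp.derCompletion X.sheaf 𝓘).obj FD).obj)⟦p⟧) :=
    ((Iso.refl _).homCongr ((shiftFunctor _ p).mapIso eT)).symm.subsingleton
  haveI := ModOver.additive_extZero X.sheaf U
  haveI := ModOver.preservesFiniteLimits_extZero X.sheaf U
  haveI := ModOver.preservesFiniteColimits_extZero X.sheaf U
  haveI := shiftAdditive X.sheaf
  haveI := Null.subsingleton_obj_of_adj_shift (A := ModSite.Mod O') (B := ModSite.Mod X.sheaf) (ExactAdj.mapDerivedCategoryAdj (ModSite.extZeroAdj X.sheaf U)) _ _ p h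
  let i : (ModSite.extZero X.sheaf U).mapDerivedCategory.obj
        ((DerivedCategory.singleFunctor (ModSite.Mod O') 0).obj (ModSite.unit O')) ≅
      SiteCmp.inD X.sheaf (ModSite.freeOn X.sheaf U) :=
    ((ModSite.extZero X.sheaf U).mapDerivedCategorySingleFunctor 0).app (ModSite.unit O')
  exact Null.subsingleton_of_iso_left i this

end Groth.Agent.H16Derived.DerCohVanish
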