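import Groth.Agent.H16Derived.DerCohVanish.Abstract
import Groth.Agent.H16Derived.DerComp.Null.Main
import Groth.Agent.H16Derived.DerComp.OpensRestr

/-!
# Derived complete objects: triangulated subcategory, restriction, scalars
-/

set_option autoImplicit false
set_option linter.style.haveILetI false
set_option backward.isDefEq.respectTransparency false

universe u

open CategoryTheory CategoryTheory.Limits CategoryTheory.Pretriangulated Opposite

namespace Groth.Agent.H16Derived.DerCohVanish

open DerCompLib H15Site ZeroObject

attribute [local instance] HasDerivedCategory.standard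
attribute [local instance 10000] SiteInst.hasSheafifySite SiteInst.hasWeakSheafifySite

variable {C : Type u} [SmallCategory C] {J : GrothendieckTopology C} (O : Sheaf J CommRingCat.{u})

/-- Shifts on the derived category of modules are additive (stated for the type class search). -/
theorem shiftAdditive : ∀ n : ℤ, (shiftFunctor (DerivedCategory (ModSite.Mod O)) n).Additive :=
  fun _ => inferInstance

attribute [local instance] shiftAdditive

/-- Derived complete objects are closed under isomorphisms. -/
theorem isClosedUnderIsomorphisms (I : DerComp.IdealSh O) :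
    (DerComp.IsDerComp O I).IsClosedUnderIsomorphisms :=
  ⟨fun {K L} e hK U f hf n =>
    haveI := hK U f hf n
    ((Iso.refl _).homCongr ((shiftFunctor _ n).mapIso e)).symm.subsingleton⟩

/-- Derived complete objects form a triangulated subcategory. -/
theorem isTriangulated (I : DerComp.IdealSh O) : (DerComp.IsDerComp O I).IsTriangulated := by
  haveI := isClosedUnderIsomorphisms O I
  haveI : (DerComp.IsDerComp O I).IsTriangulatedClosed₂ :=
    ObjectProperty.IsTriangulatedClosed₂.mk' (P := DerComp.IsDerComp O I) (fun T hT h₁ h₃ =>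
      fun U f hf n => subsingleton_obj₂ (A := ModSite.Mod O) (T := T) hT _ n (h₁ U f hf n) (h₃ U f hf n))
  haveI : (DerComp.IsDerComp O I).ContainsZero :=
    ⟨⟨(0 : DerivedCategory (ModSite.Mod O)), isZero_zero _, fun U f hf n =>
      ⟨fun a b => ((shiftFunctor (DerivedCategory (ModSite.Mod O)) n).map_isZero (isZero_zero _)).eq_of_tgt a b⟩⟩⟩
  haveI : (DerComp.IsDerComp O I).IsStableUnderShift ℤ :=
    ⟨fun k => ⟨fun M hM => Null.isDerComp_shift O I M hM k⟩⟩
  exact {}

/-- A global section acting on a free module. -/
theorem θ_eq_smul (s : DerComp.GSec O) (U : C) : θ O U (s.1 U) = s • 𝟙 (ModSite.freeOn O U) := by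
  let P := freeEndoθ O U (s.1 U)
  apply (P.e _).injective
  refine ((congrArg (P.e _) (Category.comp_id _).symm).trans (P.endo _)).trans ?_
  rw [DerComp.smul_def]
  refine Eq.trans ?_ (congrArg (P.e _) (DerComp.smulEnd_comm s (𝟙 (ModSite.freeOn O U))).symm)
  rw [P.nat]
  rfl

/-- Multiplication by a section on the unit of a localised site. -/
noncomputable def freeEndoUnit (W : C) (f : O.obj.obj (op W)) :
    FreeEndo (O.over W) (Over.mk (𝟙 W)) f (ModSite.unit (O.over W))
      (DerComp.GSec.ofSect O W f • 𝟙 (ModSite.unit (O.over W))) where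
  e F := (FreeOn.unitTopEquiv O W F).toEquiv
  nat x h := rfl
  endo {F} x := by
    rw [DerComp.smul_def, Category.comp_id, DerComp.smulEnd_comm]
    show (DerComp.GSec.val' (DerComp.GSec.ofSect O W f) (op (Over.mk (𝟙 W)))) •
        FreeOn.unitTopEquiv O W F x = _
    refine congrArg (· • (FreeOn.unitTopEquiv O W F x)) ?_
    show (O.obj.map (𝟙 W).op).hom f = f
    rw [op_id, CategoryTheory.Functor.map_id]
    rfl

/-- Scalars of the ideal act completely on maps out of the unit. -/
theorem comp_unit {W : C} {f : O.obj.obj (op W)} {I : DerComp.IdealSh O} (hf : f ∈ I.ideal W)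
    (M : DerivedCategory (ModSite.Mod (O.over W))) (hM : DerComp.IsDerComp (O.over W) (I.over W) M) (q : ℤ) :
    Comp (Preadditive.leftComp (M⟦q⟧) (DerComp.GSec.ofSect O W f •
      𝟙 ((DerivedCategory.singleFunctor (ModSite.Mod (O.over W)) 0).obj (ModSite.unit (O.over W))))) := by
  have h := ((FreeEndo.compFor_iff (O.over W) (freeEndoUnit O W f) M)).2 ((isDerComp_iff (O.over W) (I.over W) M).1 hM (Over.mk (𝟙 W)) f hf) q
  rwa [Functor.map_smul, CategoryTheory.Functor.map_id] at h

variable (W : C)

/-- The extension of a free module on `W`. -/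
noncomputable def freeEndoExt (V : Over W) (f : O.obj.obj (op V.left)) :
    FreeEndo O V.left f ((ModSite.extZero O W).obj (ModSite.freeOn (O.over W) V))
      ((ModSite.extZero O W).map (θ (O.over W) V f)) where
  e F := ((ModSite.extZeroAdj O W).homEquiv (ModSite.freeOn (O.over W) V) F).trans
    ((freeEndoθ (O.over W) V f).e ((ModSite.restr O W).obj F))
  nat {F F'} x h := by
    show (freeEndoθ (O.over W) V f).e _ ((ModSite.extZeroAdj O W).homEquiv _ F' (x ≫ h)) = _
    rw [Adjunction.homEquiv_naturality_right, (freeEndoθ (O.over W) V f).nat]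
    rfl
  endo {F} x := by
    show (freeEndoθ (O.over W) V f).e _ ((ModSite.extZeroAdj O W).homEquiv _ F
      ((ModSite.extZero O W).map (θ (O.over W) V f) ≫ x)) = _
    rw [Adjunction.homEquiv_naturality_left, (freeEndoθ (O.over W) V f).endo]
    rfl

/-- Restriction preserves completeness. -/
theorem isDerComp_restr (I : DerComp.IdealSh O) [(ModSite.restr O W).Additive]
    [PreservesFiniteLimits (ModSite.restr O W)] [PreservesFiniteColimits (ModSite.restr O W)]
    (K : DerivedCategory (ModSite.Mod O)) (hK : DerComp.IsDerComp O I K) :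
    DerComp.IsDerComp (O.over W) (I.over W) ((ModSite.restr O W).mapDerivedCategory.obj K) := by
  haveI := H10Coh.isGrothendieckAbelian_sheafOfModules (ModSite.ringSh O)
  haveI := H10Coh.isGrothendieckAbelian_sheafOfModules (ModSite.ringSh (O.over W))
  haveI := ModOver.additive_extZero O W
  haveI := ModOver.preservesFiniteLimits_extZero O W
  haveI := ModOver.preservesFiniteColimits_extZero O W
  rw [isDerComp_iff]
  intro V f hf
  let adjE := ExactAdj.mapDerivedCategoryAdj (ModSite.extZeroAdj O W)
  refine (compFor_iff_of_adj adjE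
    (((ModSite.extZero O W).mapDerivedCategorySingleFunctor 0).app (ModSite.freeOn (O.over W) V))
    (((ModSite.extZero O W).mapDerivedCategorySingleFunctor 0).hom.naturality _) K).2 ?_
  rw [FreeEndo.compFor_iff O (freeEndoExt O W V f)]
  exact (isDerComp_iff O I K).1 hK _ f hf

variable {O}

/-- A section acting nilpotently on an object is completely acting on it. -/
theorem compAt_of_nilD (s : DerComp.GSec O) {B : DerivedCategory (ModSite.Mod O)} {N : ℕ} (h : s ^ N • 𝟙 B = 0)
    (V : C) : CompAt O V (s.1 V) B := fun n => by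
  let a := precomp (Y := B⟦n⟧)
    ((S0 (A := ModSite.Mod O)).map (θ O V (s.1 V)))
  have ha : ∀ x, a x = s • x := fun x => by
    show (S0 (A := ModSite.Mod O)).map (θ O V (s.1 V)) ≫ x = s • x
    rw [θ_eq_smul, Functor.map_smul, CategoryTheory.Functor.map_id, Linear.smul_comp, Category.id_comp]
  have hz : ∀ x : (S0 (A := ModSite.Mod O)).obj (ModSite.freeOn O V) ⟶
      B⟦n⟧, s ^ N • x = 0 := fun x => by
    have h0 : s ^ N • 𝟙 (B⟦n⟧) = 0 := by
      rw [← CategoryTheory.Functor.map_id (shiftFunctor _ n), ← Functor.map_smul, h, Functor.map_zero]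
    rw [← Category.comp_id x, ← Linear.comp_smul, h0, comp_zero]
  refine ⟨fun x y hxy => funext fun i => ?_, fun y => ⟨fun i => ∑ k ∈ Finset.range N, s ^ k • y (i + k), ?_⟩⟩
  · have hd : ∀ i, x i - y i = s • (x (i + 1) - y (i + 1)) := fun i => by
      have := congrFun hxy i
      rw [shiftSub_apply, shiftSub_apply, sub_eq_sub_iff_sub_eq_sub] at this
      rw [this, ← map_sub]
      exact ha _
    have hk : ∀ k i, x i - y i = s ^ k • (x (i + k) - y (i + k)) := by
      intro k
      induction k with
      | zero => intro i; rw [pow_zero, one_smul]; rfl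
      | succ k ih => intro i; rw [ih i, hd (i + k), smul_smul, ← pow_succ]; rfl
    exact sub_eq_zero.1 ((hk N i).trans (hz _))
  · funext i
    rw [shiftSub_apply]
    refine (congrArg (_ - ·) (ha _)).trans ?_
    rw [Finset.smul_sum, ← Finset.sum_sub_distrib]
    have hterm : ∀ k, s ^ k • y (i + k) - s • s ^ k • y (i + 1 + k) =
        (fun k => s ^ k • y (i + k)) k - (fun k => s ^ k • y (i + k)) (k + 1) := fun k => by
      show _ = _ - s ^ (k + 1) • y (i + (k + 1))
      rw [smul_smul, ← pow_succ', show i + 1 + k = i + (k + 1) by omega]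
    refine (Finset.sum_congr rfl fun k _ => hterm k).trans ?_
    rw [Finset.sum_range_sub' (fun k => s ^ k • y (i + k)) N]
    show s ^ 0 • y (i + 0) - s ^ N • y (i + N) = y i
    rw [hz, sub_zero, pow_zero, one_smul]
    rfl

/-- A section acting nilpotently on a module is completely acting on it. -/
theorem compAt_of_nil (s : DerComp.GSec O) {H : ModSite.Mod O} {N : ℕ} (h : s ^ N • 𝟙 H = 0) (V : C) :
    CompAt O V (s.1 V) ((DerivedCategory.singleFunctor (ModSite.Mod O) 0).obj H) :=
  compAt_of_nilD s (by
    rw [← CategoryTheory.Functor.map_id (DerivedCategory.singleFunctor (ModSite.Mod O) 0), ← Functor.map_smul, h,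
      Functor.map_zero]) V

end Groth.Agent.H16Derived.DerCohVanish
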